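import Cfsg.Agent.AutA6.ThreeCycle

/-!
A group inducing all automorphisms of the alternating group of degree six has no two Sylow
2-subgroups with trivial intersection.
-/

set_option autoImplicit false

namespace Cfsg.Agent.AutA6

open Equiv Equiv.Perm
open scoped Pointwise

/-- short name for the alternating group of degree six -/
abbrev A6 : Type := alternatingGroup (Fin 6)

/-- an even permutation as an element of the alternating group -/
def mkA (p : Perm (Fin 6)) (h : Perm.sign p = 1) : A6 := ⟨p, h⟩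

/-- `(02)(13)` -/
def u0 : A6 := mkA (swap 0 2 * swap 1 3) (by decide +kernel)

/-- `(13)(25)` -/
def v1 : A6 := mkA (swap 1 3 * swap 2 5) (by decide +kernel)

/-- the non-trivial elements commuting with `(02)(13)` -/
def cList : List A6 :=
  [u0, mkA (swap 0 1 * swap 2 3) (by decide +kernel), mkA (swap 0 3 * swap 1 2) (by decide +kernel),
    mkA (swap 0 2 * swap 4 5) (by decide +kernel), mkA (swap 1 3 * swap 4 5) (by decide +kernel),
    mkA (swap 0 1 * swap 1 2 * swap 2 3 * swap 4 5) (by decide +kernel),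
    mkA (swap 3 2 * swap 2 1 * swap 1 0 * swap 4 5) (by decide +kernel)]

/-- involutions -/
def invs : Finset A6 := Finset.univ.filter fun v => v * v = 1 ∧ v ≠ 1

/-- involutions commuting with no non-trivial element commuting with `(02)(13)` -/
def opp : Finset A6 := invs.filter fun v => ∀ s ∈ cList, s * v ≠ v * s

theorem card_invs : invs.card = 45 := by decide +kernel

theorem card_opp : opp.card ≤ 32 := by decide +kernel

theorem v1_mem : v1 ∈ opp := by decide +kernel

theorem u0_mem : u0 ∈ invs := by decide +kernel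

theorem cList_spec : ∀ s ∈ cList, s * u0 = u0 * s ∧ s ≠ 1 := by decide +kernel

theorem cycleType_invs : ∀ v : A6, v * v = 1 → v ≠ 1 → (v : Perm (Fin 6)).cycleType = {2, 2} := by
  intro v hv hv1
  have hne : (v : Perm (Fin 6)) ≠ 1 := fun h => hv1 (Subtype.ext h)
  have h2 : orderOf (v : Perm (Fin 6)) = 2 := by
    refine orderOf_eq_prime ?_ hne
    rw [pow_two]
    exact congrArg Subtype.val hv
  obtain ⟨j, hj⟩ := cycleType_prime_order (σ := (v : Perm (Fin 6))) (by rw [h2]; norm_num)
  rw [h2] at hj
  have hsum := sum_cycleType (v : Perm (Fin 6))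
  have hle : (v : Perm (Fin 6)).support.card ≤ 6 :=
    (Finset.card_le_univ _).trans_eq (Fintype.card_fin 6)
  have hsign := sign_of_cycleType (v : Perm (Fin 6))
  rw [hj] at hsum hsign
  rw [show Perm.sign (v : Perm (Fin 6)) = 1 from v.2] at hsign
  simp only [Multiset.sum_replicate, Multiset.card_replicate, smul_eq_mul] at hsum hsign
  have hj3 : j ≤ 2 := by omega
  interval_cases j
  · exact absurd hsign (by decide)
  · rw [hj]; rfl
  · exact absurd hsign (by decide)

theorem exists_conj_invs {v : A6} (hv : v ∈ invs) : ∃ a : A6, a * u0 * a⁻¹ = v := by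
  simp only [invs, Finset.mem_filter, Finset.mem_univ, true_and] at hv
  have hu : u0 * u0 = 1 ∧ u0 ≠ 1 := by
    simpa [invs] using u0_mem
  obtain ⟨π, hπ⟩ := isConj_iff.1 (isConj_iff_cycleType_eq.2
    ((cycleType_invs u0 hu.1 hu.2).trans (cycleType_invs v hv.1 hv.2).symm))
  rcases Int.units_eq_one_or (Perm.sign π) with hs | hs
  · exact ⟨⟨π, hs⟩, Subtype.ext hπ⟩
  · refine ⟨⟨π * swap 1 3, ?_⟩, Subtype.ext ?_⟩
    · rw [mem_alternatingGroup, map_mul, hs, sign_swap (by decide)]
      decide
    · show π * swap 1 3 * (u0 : Perm (Fin 6)) * (π * swap 1 3)⁻¹ = (v : Perm (Fin 6))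
      have hc : swap 1 3 * (u0 : Perm (Fin 6)) = (u0 : Perm (Fin 6)) * swap 1 3 := by decide +kernel
      rw [mul_assoc π, hc, ← hπ]
      group

variable {G : Type*} [Group G] [Finite G] (f : G →* MulAut A6)

/-- the stabiliser of an element -/
def stab (v : A6) : Subgroup G where
  carrier := {g | f g v = v}
  one_mem' := by simp
  mul_mem' {a b} ha hb := by
    simp only [Set.mem_setOf_eq] at ha hb ⊢
    rw [map_mul, MulAut.mul_apply, hb, ha]
  inv_mem' {a} ha := by
    simp only [Set.mem_setOf_eq] at ha ⊢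
    rw [map_inv, MulAut.inv_apply, MulEquiv.symm_apply_eq, ha]

theorem mem_stab {v : A6} {g : G} : g ∈ stab f v ↔ f g v = v := Iff.rfl

theorem conj_stab (y : G) (v : A6) : MulAut.conj y • stab f v = stab f (f y v) := by
  ext g
  rw [Subgroup.mem_pointwise_smul_iff_inv_smul_mem]
  simp only [MulAut.smul_def, MulAut.inv_def, MulAut.conj_symm_apply, mem_stab, map_mul, map_inv,
    MulAut.mul_apply, MulAut.inv_apply]
  rw [MulEquiv.symm_apply_eq]

theorem map_invs (φ : MulAut A6) {v : A6} (hv : v ∈ invs) : φ v ∈ invs := by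
  simp only [invs, Finset.mem_filter, Finset.mem_univ, true_and] at hv ⊢
  refine ⟨by rw [← map_mul, hv.1, map_one], fun h => hv.2 ?_⟩
  exact φ.injective (h.trans (map_one φ).symm)

variable {f} (hinn : ∀ a : A6, ∃ g, f g = MulAut.conj a) (hcard : Nat.card G = 1440)

include hinn in
theorem exists_map_u0 {v : A6} (hv : v ∈ invs) : ∃ g, f g u0 = v := by
  obtain ⟨a, ha⟩ := exists_conj_invs hv
  obtain ⟨g, hg⟩ := hinn a
  exact ⟨g, by rw [hg, MulAut.conj_apply, ha]⟩

include hinn hcard in
theorem card_stab : Nat.card (stab f u0) = 32 := by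
  letI : MulAction G A6 := MulAction.compHom A6 f
  have hst : stab f u0 = MulAction.stabilizer G u0 := by
    ext g
    rfl
  have horb : MulAction.orbit G u0 = (invs : Set A6) := by
    ext v
    constructor
    · rintro ⟨g, rfl⟩
      exact map_invs (f g) u0_mem
    · intro hv
      obtain ⟨g, hg⟩ := exists_map_u0 hinn hv
      exact ⟨g, hg⟩
  have h := MulAction.index_stabilizer G u0
  rw [horb, Set.ncard_coe_finset, card_invs] at h
  have h2 := Subgroup.card_mul_index (MulAction.stabilizer G u0)
  rw [h, hcard] at h2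
  rw [hst]
  omega

include hinn hcard in
theorem exists_eq_stab (H : Sylow 2 G) : ∃ v ∈ invs, (H : Subgroup G) = stab f v := by
  haveI : Fact (Nat.Prime 2) := ⟨Nat.prime_two⟩
  have hfac : (1440 : ℕ).factorization 2 = 5 := by
    rw [Nat.factorization_def _ Nat.prime_two, show 1440 = 2 ^ 5 * 45 by norm_num,
      padicValNat.mul (by norm_num) (by norm_num), padicValNat.prime_pow,
      padicValNat.eq_zero_of_not_dvd (by norm_num)]
  let P : Sylow 2 G := Sylow.ofCard (stab f u0) (by rw [hcard, hfac, card_stab hinn hcard]; norm_num)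
  obtain ⟨y, hy⟩ := MulAction.exists_smul_eq G P H
  refine ⟨f y u0, map_invs _ u0_mem, ?_⟩
  rw [← hy, Sylow.coe_subgroup_smul, ← conj_stab]
  rfl

include hinn hcard in
theorem inf_ne_bot (hinj : Function.Injective f)
    (ht : ∃ g, f g = MulAut.conjNormal (swap (1 : Fin 6) 3)) (H : Sylow 2 G) (x : G) :
    (H : Subgroup G) ⊓ MulAut.conj x • (H : Subgroup G) ≠ ⊥ := by
  obtain ⟨w, hw, hH⟩ := exists_eq_stab hinn hcard H
  rw [hH, conj_stab]
  intro hbot
  obtain ⟨y, hy⟩ := exists_map_u0 hinn hw
  set V := f y⁻¹ (f x w) with hV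
  have hVmem : V ∈ invs := map_invs _ (map_invs _ hw)
  have hKV : ∀ k, f k u0 = u0 → f k V = V → k = 1 := by
    intro k hk1 hk2
    have h1 : y * k * y⁻¹ ∈ stab f w ⊓ stab f (f x w) := by
      have e : f y V = f x w := by rw [hV, ← MulAut.mul_apply, ← map_mul]; simp
      have key : ∀ z, f k z = z → f (y * k * y⁻¹) (f y z) = f y z := fun z hz => by
        rw [← MulAut.mul_apply, ← map_mul, inv_mul_cancel_right, map_mul, MulAut.mul_apply, hz]
      rw [Subgroup.mem_inf, mem_stab, mem_stab]
      exact ⟨hy ▸ key u0 hk1, e ▸ key V hk2⟩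
    rw [hbot, Subgroup.mem_bot] at h1
    simpa using h1
  let orb : stab f u0 → A6 := fun k => f (k : G) V
  have horb : Function.Injective orb := by
    intro a b hab
    refine Subtype.ext (inv_mul_eq_one.1 (hKV _ (mul_mem (inv_mem a.2) b.2) ?_))
    simp only [orb] at hab
    rw [map_mul, MulAut.mul_apply, ← hab, ← MulAut.mul_apply, ← map_mul]
    simp
  have hsub : ∀ k, orb k ∈ opp := by
    intro k
    refine Finset.mem_filter.2 ⟨map_invs _ hVmem, fun s hs hc => ?_⟩
    obtain ⟨g, hg⟩ := hinn s
    have hsu : f g u0 = u0 := by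
      rw [hg, MulAut.conj_apply, (cList_spec s hs).1, mul_inv_cancel_right]
    have hsw : f g (orb k) = orb k := by
      rw [hg, MulAut.conj_apply, hc, mul_inv_cancel_right]
    have h1 : (k : G)⁻¹ * g * k = 1 := by
      refine hKV _ (mul_mem (mul_mem (inv_mem k.2) (mem_stab f |>.2 hsu)) k.2) ?_
      rw [map_mul, map_mul, MulAut.mul_apply, MulAut.mul_apply]
      simp only [orb] at hsw
      rw [hsw, ← MulAut.mul_apply, ← map_mul, inv_mul_cancel, map_one, MulAut.one_apply]
    have hg1 : g = 1 := by
      have := congrArg (fun z => (k : G) * z * (k : G)⁻¹) h1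
      simpa [mul_assoc] using this
    rw [hg1, map_one] at hg
    have h2 : ∀ a : A6, s * a = a * s := fun a => by
      have := MulEquiv.congr_fun hg a
      rw [MulAut.one_apply, MulAut.conj_apply] at this
      calc s * a = s * a * s⁻¹ * s := by simp
        _ = a * s := by rw [← this]
    exact (Finset.mem_filter.1 v1_mem).2 s hs (h2 v1)
  classical
  haveI := Fintype.ofFinite (stab f u0)
  have himg : Finset.univ.image orb = opp := by
    refine Finset.eq_of_subset_of_card_le (fun a ha => ?_) ?_
    · obtain ⟨k, -, rfl⟩ := Finset.mem_image.1 ha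
      exact hsub k
    · rw [Finset.card_image_of_injective _ horb, Finset.card_univ, ← Nat.card_eq_fintype_card,
        card_stab hinn hcard]
      exact card_opp
  obtain ⟨k, -, hk⟩ := Finset.mem_image.1 (himg.symm ▸ v1_mem)
  obtain ⟨t, ht⟩ := ht
  have ht0 : f t u0 = u0 := by
    rw [ht]; refine Subtype.ext ?_; rw [MulAut.conjNormal_apply]; decide +kernel
  have ht1 : f t v1 = v1 := by
    rw [ht]; refine Subtype.ext ?_; rw [MulAut.conjNormal_apply]; decide +kernel
  have h1 : (k : G)⁻¹ * t * k = 1 := by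
    refine hKV _ (mul_mem (mul_mem (inv_mem k.2) ((mem_stab f).2 ht0)) k.2) ?_
    rw [map_mul, map_mul, MulAut.mul_apply, MulAut.mul_apply]
    simp only [orb] at hk
    rw [hk, ht1, ← hk, ← MulAut.mul_apply, ← map_mul, inv_mul_cancel, map_one, MulAut.one_apply]
  have ht2 : t = 1 := by
    have := congrArg (fun z => (k : G) * z * (k : G)⁻¹) h1
    simpa [mul_assoc] using this
  rw [ht2, map_one] at ht
  have h3 := congrArg Subtype.val (MulEquiv.congr_fun ht
    (mkA (swap 0 1 * swap 2 3) (by decide +kernel)))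
  rw [MulAut.conjNormal_apply, MulAut.one_apply] at h3
  revert h3
  decide +kernel

/-- an automorphism maps either class of elements of order three into one class -/
theorem map_three_class (φ : MulAut A6) {x y : A6} {k : ℕ}
    (hx : (x : Perm (Fin 6)).cycleType = Multiset.replicate k 3)
    (hy : (y : Perm (Fin 6)).cycleType = Multiset.replicate k 3) (hk : k = 1 ∨ k = 2) :
    ((φ x : A6) : Perm (Fin 6)).cycleType = ((φ y : A6) : Perm (Fin 6)).cycleType := by
  obtain ⟨c, rfl⟩ := isConj_iff.1 (KnownSimple.AutAlt.isConj_of_replicate hx hy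
    (by rcases hk with rfl | rfl <;> norm_num))
  rw [map_mul, map_mul, map_inv, Subgroup.coe_mul, Subgroup.coe_mul, Subgroup.coe_inv,
    cycleType_conj]

/-- elements of order three have one of two cycle types -/
theorem cycleType_three (z : A6) (hz : orderOf z = 3) :
    (z : Perm (Fin 6)).cycleType = Multiset.replicate 1 3 ∨
      (z : Perm (Fin 6)).cycleType = Multiset.replicate 2 3 := by
  have ho : orderOf (z : Perm (Fin 6)) = 3 := by rw [Subgroup.orderOf_coe, hz]
  obtain ⟨j, hj⟩ := cycleType_prime_order (σ := (z : Perm (Fin 6))) (by rw [ho]; norm_num)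
  rw [ho] at hj
  have hsum := sum_cycleType (z : Perm (Fin 6))
  rw [hj, Multiset.sum_replicate, smul_eq_mul] at hsum
  have hle : (z : Perm (Fin 6)).support.card ≤ 6 :=
    (Finset.card_le_univ _).trans_eq (Fintype.card_fin 6)
  have : j = 0 ∨ j = 1 := by omega
  rcases this with rfl | rfl
  · exact Or.inl hj
  · exact Or.inr hj

/-- maps 3-cycles to 3-cycles -/
def Keeps (φ : MulAut A6) : Prop :=
  ∀ x : A6, IsThreeCycle (x : Perm (Fin 6)) → IsThreeCycle ((φ x : A6) : Perm (Fin 6))

theorem keeps_mul {φ ψ : MulAut A6} (hφ : ¬ Keeps φ) (hψ : ¬ Keeps ψ) : Keeps (φ * ψ) := by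
  have key : ∀ χ : MulAut A6, ¬ Keeps χ →
      (∀ x : A6, (x : Perm (Fin 6)).cycleType = Multiset.replicate 1 3 →
        ((χ x : A6) : Perm (Fin 6)).cycleType = Multiset.replicate 2 3) ∧
      (∀ x : A6, (x : Perm (Fin 6)).cycleType = Multiset.replicate 2 3 →
        ((χ x : A6) : Perm (Fin 6)).cycleType = Multiset.replicate 1 3) := by
    intro χ hχ
    have hne : (Multiset.replicate 1 3 : Multiset ℕ) ≠ Multiset.replicate 2 3 := by decide
    have hord : ∀ x : A6, ∀ k, (k = 1 ∨ k = 2) →
        (x : Perm (Fin 6)).cycleType = Multiset.replicate k 3 → orderOf (χ x) = 3 :=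
      fun x k hk hx => by
        rw [MulEquiv.orderOf_eq, ← Subgroup.orderOf_coe, ← lcm_cycleType, hx]
        rcases hk with rfl | rfl <;> decide
    simp only [Keeps, not_forall, exists_prop] at hχ
    obtain ⟨x0, hx0, hx0'⟩ := hχ
    have h0 : ((χ x0 : A6) : Perm (Fin 6)).cycleType = Multiset.replicate 2 3 :=
      (cycleType_three _ (hord x0 1 (Or.inl rfl) hx0)).resolve_left hx0'
    have h1 : ∀ x : A6, (x : Perm (Fin 6)).cycleType = Multiset.replicate 1 3 →
        ((χ x : A6) : Perm (Fin 6)).cycleType = Multiset.replicate 2 3 := fun x hx =>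
      (map_three_class χ hx hx0 (Or.inl rfl)).trans h0
    refine ⟨h1, fun x hx => ?_⟩
    rcases cycleType_three _ (hord x 2 (Or.inr rfl) hx) with h | h
    · exact h
    · exfalso
      have h2 : ((χ (χ.symm x0) : A6) : Perm (Fin 6)).cycleType = Multiset.replicate 1 3 := by
        rw [MulEquiv.apply_symm_apply]; exact hx0
      rcases cycleType_three (χ.symm x0) (by
        rw [MulEquiv.orderOf_eq, ← Subgroup.orderOf_coe]; exact IsThreeCycle.orderOf hx0) with h3 | h3
      · exact hne (h2.symm.trans (h1 _ h3))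
      · exact hne (h2.symm.trans ((map_three_class χ h3 hx (Or.inr rfl)).trans h))
  intro x hx
  rw [MulAut.mul_apply]
  exact (key φ hφ).2 _ ((key ψ hψ).1 x hx)

end Cfsg.Agent.AutA6
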