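import Cfsg.Agent.KnownSimple.AutAlternating.Main

/-!
An automorphism of an alternating group mapping 3-cycles to 3-cycles is conjugation by a
permutation (the argument of `AutAlternating.Main`, without a restriction on the degree).
-/

set_option autoImplicit false

namespace Cfsg.Agent.AutA6

open Equiv Equiv.Perm Cfsg.Agent.KnownSimple.AutAlt

variable {n : ℕ}

theorem exists_perm_of_map_three (hn : 4 ≤ n) (φ : MulAut (alternatingGroup (Fin n)))
    (h3c : ∀ x : alternatingGroup (Fin n), IsThreeCycle (x : Perm (Fin n)) →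
      IsThreeCycle ((φ x : alternatingGroup (Fin n)) : Perm (Fin n))) :
    ∃ σ : Perm (Fin n), MulAut.conjNormal σ = φ := by
  classical
  obtain ⟨i0, i1, h01⟩ : ∃ i0 i1 : Fin n, i0 ≠ i1 :=
    ⟨⟨0, by omega⟩, ⟨1, by omega⟩, by simp [Fin.ext_iff]⟩
  let c : {i : Fin n // i ≠ i0 ∧ i ≠ i1} → alternatingGroup (Fin n) := fun i =>
    ⟨cyc i0 i1 i, (cyc_isThreeCycle h01 i.2.1.symm i.2.2.symm).mem_alternatingGroup⟩
  let Y : {i : Fin n // i ≠ i0 ∧ i ≠ i1} → Perm (Fin n) := fun i => (φ (c i) : alternatingGroup _)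
  have hY : ∀ i, IsThreeCycle (Y i) := fun i =>
    h3c _ (cyc_isThreeCycle h01 i.2.1.symm i.2.2.symm)
  have hYinj : Function.Injective Y := fun i j h => by
    have h' : (cyc i0 i1 i : Perm (Fin n)) i1 = cyc i0 i1 j i1 := by
      rw [show cyc i0 i1 (i : Fin n) = cyc i0 i1 j from
        congrArg Subtype.val (φ.injective (Subtype.ext h))]
    rw [cyc_b i.2.2.symm i.2.1.symm, cyc_b j.2.2.symm j.2.1.symm] at h'
    exact Subtype.ext h'
  have hprod : ∀ i j, i ≠ j → ∃ p, Y i p = Y j p ∧ Y i p ≠ p := by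
    intro i j hij
    have hij' : (i : Fin n) ≠ j := fun h => hij (Subtype.ext h)
    refine exists_common_edge (hY i) (hY j) ?_ ?_
    · intro h
      have h1 : φ (c i * c j) = 1 := by rw [map_mul]; exact Subtype.ext h
      have h2 : cyc i0 i1 (i : Fin n) * cyc i0 i1 j = 1 :=
        congrArg Subtype.val (φ.injective (h1.trans (map_one φ).symm))
      have h3 := Equiv.ext_iff.1 h2 i0
      rw [Perm.mul_apply, cyc_a h01 j.2.1.symm, cyc_b i.2.2.symm i.2.1.symm] at h3
      exact i.2.1 h3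
    · have h1 : c i * c j * (c i * c j) = 1 := by
        refine Subtype.ext (Equiv.ext fun x => ?_)
        show (cyc i0 i1 (i : Fin n) * cyc i0 i1 j * (cyc i0 i1 i * cyc i0 i1 j)) x = x
        simp only [Perm.mul_apply]
        by_cases x1 : x = i0
        · subst x1
          rw [cyc_a h01 j.2.1.symm, cyc_b i.2.2.symm i.2.1.symm,
            cyc_of i.2.1 i.2.2 hij', cyc_c]
        by_cases x2 : x = i1
        · subst x2
          rw [cyc_b j.2.2.symm j.2.1.symm, cyc_of j.2.1 j.2.2 hij'.symm, cyc_c,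
            cyc_a h01 i.2.1.symm]
        by_cases x3 : x = i
        · subst x3
          rw [cyc_of i.2.1 i.2.2 hij', cyc_c, cyc_a h01 j.2.1.symm, cyc_b i.2.2.symm i.2.1.symm]
        by_cases x4 : x = j
        · subst x4
          rw [cyc_c, cyc_a h01 i.2.1.symm, cyc_b j.2.2.symm j.2.1.symm,
            cyc_of j.2.1 j.2.2 hij'.symm]
        rw [cyc_of x1 x2 x4, cyc_of x1 x2 x3, cyc_of x1 x2 x4, cyc_of x1 x2 x3]
      have h2 := congrArg (fun g => ((φ g : alternatingGroup (Fin n)) : Perm (Fin n))) h1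
      simpa [Y, map_mul] using h2
  -- the common edge
  obtain ⟨u, v, huv⟩ : ∃ u v : {i : Fin n // i ≠ i0 ∧ i ≠ i1}, u ≠ v := by
    have hcard : 2 ≤ Fintype.card {i : Fin n // i ≠ i0 ∧ i ≠ i1} := by
      rw [Fintype.card_subtype]
      have : (Finset.univ.filter fun i : Fin n => i ≠ i0 ∧ i ≠ i1) = {i0, i1}ᶜ := by ext; simp
      rw [this, Finset.card_compl, Fintype.card_fin, Finset.card_pair h01]
      omega
    exact Fintype.exists_pair_of_one_lt_card (by omega)
  obtain ⟨a, hab, ha⟩ := hprod u v huv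
  have hedge : ∀ i, Y i a = Y u a := by
    intro i
    by_cases h1 : i = u
    · rw [h1]
    by_cases h2 : i = v
    · rw [h2, hab]
    obtain ⟨p, hp, hp'⟩ := hprod u i (Ne.symm h1)
    obtain ⟨r, hr, hr'⟩ := hprod v i (Ne.symm h2)
    exact third_edge (hY u) (hY v) (hY i) hab ha (fun h => huv (hYinj h)) hp hp' hr hr'
  set b := Y u a with hb
  have hs : ∀ i, Y i = cyc a b (Y i b) ∧ a ≠ Y i b ∧ b ≠ Y i b := by
    intro i
    have hi : Y i a ≠ a := by rw [hedge]; exact ha
    obtain ⟨h1, -, h2, h3⟩ := eq_cyc (hY i) hi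
    rw [hedge] at h1 h2 h3
    exact ⟨h1, h2, h3⟩
  let f : Fin n → Fin n := fun i =>
    if h : i ≠ i0 ∧ i ≠ i1 then Y ⟨i, h⟩ b else if i = i0 then a else b
  have f0 : f i0 = a := by simp [f]
  have f1 : f i1 = b := by simp [f, h01.symm]
  have fi : ∀ i : {i : Fin n // i ≠ i0 ∧ i ≠ i1}, f i = Y i b := fun i => dif_pos i.2
  have hfinj : Function.Injective f := by
    intro i j h
    by_cases hi : i ≠ i0 ∧ i ≠ i1
    · rw [show f i = Y ⟨i, hi⟩ b from dif_pos hi] at h
      by_cases hj : j ≠ i0 ∧ j ≠ i1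
      · rw [show f j = Y ⟨j, hj⟩ b from dif_pos hj] at h
        have := hYinj (show Y ⟨i, hi⟩ = Y ⟨j, hj⟩ by rw [(hs _).1, (hs ⟨j, hj⟩).1, h])
        exact congrArg Subtype.val this
      · exfalso
        rw [not_and_or, not_not, not_not] at hj
        rcases hj with rfl | rfl
        · exact (hs ⟨i, hi⟩).2.1 (by rw [h, f0])
        · exact (hs ⟨i, hi⟩).2.2 (by rw [h, f1])
    · rw [not_and_or, not_not, not_not] at hi
      by_cases hj : j ≠ i0 ∧ j ≠ i1
      · exfalso
        rw [show f j = Y ⟨j, hj⟩ b from dif_pos hj] at h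
        rcases hi with rfl | rfl
        · exact (hs ⟨j, hj⟩).2.1 (by rw [← h, f0])
        · exact (hs ⟨j, hj⟩).2.2 (by rw [← h, f1])
      · rw [not_and_or, not_not, not_not] at hj
        rcases hi with rfl | rfl <;> rcases hj with rfl | rfl
        · rfl
        · rw [f0, f1] at h; exact absurd h ha.symm
        · rw [f0, f1] at h; exact absurd h ha
        · rfl
  let σ : Perm (Fin n) := Equiv.ofBijective f hfinj.bijective_of_finite
  refine ⟨σ, ?_⟩
  have hagree : ∀ i, MulAut.conjNormal σ (c i) = φ (c i) := by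
    intro i
    refine Subtype.ext ?_
    rw [MulAut.conjNormal_apply]
    show σ * cyc i0 i1 (i : Fin n) * σ⁻¹ = Y i
    rw [(hs i).1, cyc, cyc, show σ * (swap i0 i1 * swap i1 (i : Fin n)) * σ⁻¹ =
        (σ * swap i0 i1 * σ⁻¹) * (σ * swap i1 (i : Fin n) * σ⁻¹) by group,
      Equiv.mul_swap_eq_swap_mul, Equiv.mul_swap_eq_swap_mul, mul_inv_cancel_right,
      mul_inv_cancel_right]
    show swap (f i0) (f i1) * swap (f i1) (f i) = _
    rw [f0, f1, fi]
  refine MulEquiv.ext fun g => ?_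
  have hgen : ∀ (x : Perm (Fin n)) (hx : x ∈ Subgroup.closure
      {g : Perm (Fin n) | ∃ i, i ≠ i0 ∧ i ≠ i1 ∧ g = cyc i0 i1 i}),
      MulAut.conjNormal σ (⟨x, (closure_cyc_eq hn i0 i1 h01).le hx⟩ : alternatingGroup (Fin n)) =
        φ ⟨x, (closure_cyc_eq hn i0 i1 h01).le hx⟩ := by
    intro x hx
    induction hx using Subgroup.closure_induction with
    | mem x hx => obtain ⟨i, h0, h1, rfl⟩ := hx; exact hagree ⟨i, h0, h1⟩
    | one => exact (map_one _).trans (map_one φ).symm
    | mul x y hx hy ihx ihy =>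
      have hxA := (closure_cyc_eq hn i0 i1 h01).le hx
      have hyA := (closure_cyc_eq hn i0 i1 h01).le hy
      rw [show (⟨x * y, (closure_cyc_eq hn i0 i1 h01).le (mul_mem hx hy)⟩ :
        alternatingGroup (Fin n)) = ⟨x, hxA⟩ * ⟨y, hyA⟩ from rfl, map_mul, map_mul, ihx, ihy]
    | inv x hx ihx =>
      have hxA := (closure_cyc_eq hn i0 i1 h01).le hx
      rw [show (⟨x⁻¹, (closure_cyc_eq hn i0 i1 h01).le (inv_mem hx)⟩ :
        alternatingGroup (Fin n)) = ⟨x, hxA⟩⁻¹ from rfl, map_inv, map_inv, ihx]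
  exact hgen g ((closure_cyc_eq hn i0 i1 h01).ge g.2)

end Cfsg.Agent.AutA6
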